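import Mathlib.LinearAlgebra.Matrix.SpecialLinearGroup
import Mathlib.FieldTheory.Finite.Basic
import Mathlib.Tactic.FinCases
import Mathlib.Tactic.LinearCombination
import Mathlib.Tactic.FieldSimp

/-! Elements of `SL₂` whose square is `±1` over a finite field of odd order. -/

set_option autoImplicit false

namespace CfsgLib.SLTwoSq

open Matrix

theorem ringChar_ne_two {F : Type*} [Field F] [Fintype F] (h : Odd (Fintype.card F)) : ringChar F ≠ 2 := by
  intro h2
  have := FiniteField.even_card_iff_char_two.1 h2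
  obtain ⟨k, hk⟩ := h
  omega

/-- The matrix `-1` in `SL₂`. -/
def negOne (F : Type*) [Field F] : SpecialLinearGroup (Fin 2) F := ⟨!![-1, 0; 0, -1], by simp [det_fin_two]⟩

/-- The rotation by a quarter turn in `SL₂`. -/
def rot (F : Type*) [Field F] : SpecialLinearGroup (Fin 2) F := ⟨!![0, -1; 1, 0], by simp [det_fin_two]⟩

theorem rot_sq (F : Type*) [Field F] : rot F * rot F = negOne F := by
  apply Subtype.ext
  show !![(0:F), -1; 1, 0] * !![0, -1; 1, 0] = !![-1, 0; 0, -1]
  simp [mul_fin_two]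

variable {F : Type*} [Field F]

theorem entries_of_sq_eq {A : SpecialLinearGroup (Fin 2) F} {ε : F}
    (h : (A * A : SpecialLinearGroup (Fin 2) F).1 = !![ε, 0; 0, ε]) :
    A.1 0 0 * A.1 0 0 + A.1 0 1 * A.1 1 0 = ε ∧ A.1 0 1 * (A.1 0 0 + A.1 1 1) = 0 ∧
      A.1 1 0 * (A.1 0 0 + A.1 1 1) = 0 ∧ A.1 1 0 * A.1 0 1 + A.1 1 1 * A.1 1 1 = ε := by
  rw [SpecialLinearGroup.coe_mul] at h
  have h00 := congrFun (congrFun h 0) 0
  have h01 := congrFun (congrFun h 0) 1
  have h10 := congrFun (congrFun h 1) 0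
  have h11 := congrFun (congrFun h 1) 1
  simp [Matrix.mul_apply, Fin.sum_univ_two] at h00 h01 h10 h11
  exact ⟨h00, by linear_combination h01, by linear_combination h10, h11⟩

theorem sq_eq_one (h2 : (2 : F) ≠ 0) (A : SpecialLinearGroup (Fin 2) F) (h : A * A = 1) :
    A = 1 ∨ A = negOne F := by
  obtain ⟨e00, e01, e10, e11⟩ := entries_of_sq_eq (A := A) (ε := 1) (by rw [h]; simp [Matrix.one_fin_two])
  have hd : A.1 0 0 * A.1 1 1 - A.1 0 1 * A.1 1 0 = 1 := by rw [← det_fin_two]; exact A.2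
  have htr : A.1 0 0 + A.1 1 1 ≠ 0 := by
    intro h0
    have : (2 : F) = 0 := by linear_combination (A.1 0 0) * h0 - e00 - hd
    exact h2 this
  have hb : A.1 0 1 = 0 := (mul_eq_zero.1 e01).resolve_right htr
  have hc : A.1 1 0 = 0 := (mul_eq_zero.1 e10).resolve_right htr
  rw [hb, zero_mul, sub_zero] at hd
  rw [hb, zero_mul, add_zero] at e00
  have hda : A.1 1 1 = A.1 0 0 := by linear_combination A.1 0 0 * hd - A.1 1 1 * e00
  rcases mul_self_eq_one_iff.1 e00 with ha | ha
  · left; apply Subtype.ext; rw [Matrix.eta_fin_two A.1, hb, hc, hda, ha]; simp [Matrix.one_fin_two]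
  · right; apply Subtype.ext; rw [Matrix.eta_fin_two A.1, hb, hc, hda, ha]; rfl

theorem exists_sum_two_sq [Fintype F] (h2 : (2 : F) ≠ 0) (c : F) : ∃ x y : F, x * x + y * y = c := by
  classical
  have hr : ringChar F ≠ 2 := fun h => h2 (by
    have : CharP F 2 := h ▸ ringChar.charP F
    exact CharP.cast_eq_zero F 2)
  obtain ⟨a, b, hab⟩ := FiniteField.exists_root_sum_quadratic (f := Polynomial.X ^ 2) (g := Polynomial.X ^ 2 - Polynomial.C c)
    (Polynomial.degree_X_pow 2) (Polynomial.degree_X_pow_sub_C (by norm_num) c)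
    (Nat.odd_iff.1 (Nat.odd_iff.2 (FiniteField.odd_card_of_char_ne_two hr)))
  refine ⟨a, b, ?_⟩
  simp at hab
  linear_combination hab

/-- An element of square `-1` is conjugate to the quarter turn. -/
theorem conj_rot [Fintype F] (h2 : (2 : F) ≠ 0) (A : SpecialLinearGroup (Fin 2) F) (h : A * A = negOne F) :
    ∃ P : SpecialLinearGroup (Fin 2) F, P * rot F * P⁻¹ = A := by
  obtain ⟨e00, e01, e10, e11⟩ := entries_of_sq_eq (A := A) (ε := -1) (by rw [h]; rfl)
  have hd : A.1 0 0 * A.1 1 1 - A.1 0 1 * A.1 1 0 = 1 := by rw [← det_fin_two]; exact A.2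
  set a := A.1 0 0 with ha'
  set b := A.1 0 1 with hb'
  set c := A.1 1 0 with hc'
  set d := A.1 1 1 with hd'
  have hda : d = -a := by
    have h0 : a * (a + d) = 0 := by linear_combination e00 + hd
    have h1 : d * (a + d) = 0 := by linear_combination e11 + hd
    have : (a + d) * (a + d) = 0 := by linear_combination h0 + h1
    linear_combination mul_self_eq_zero.1 this
  suffices hv : ∃ s u : F, s * (c * s + d * u) - u * (a * s + b * u) = 1 by
    obtain ⟨s, u, hsu⟩ := hv
    let P : SpecialLinearGroup (Fin 2) F := ⟨!![s, a * s + b * u; u, c * s + d * u], by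
      rw [det_fin_two_of]; linear_combination hsu⟩
    refine ⟨P, ?_⟩
    rw [mul_inv_eq_iff_eq_mul]
    apply Subtype.ext
    rw [SpecialLinearGroup.coe_mul, SpecialLinearGroup.coe_mul]
    show !![s, a * s + b * u; u, c * s + d * u] * !![0, -1; 1, 0] = A.1 * !![s, a * s + b * u; u, c * s + d * u]
    rw [Matrix.eta_fin_two A.1, ← ha', ← hb', ← hc', ← hd', mul_fin_two, mul_fin_two]
    refine Matrix.ext fun i j => ?_
    fin_cases i <;> fin_cases j <;> simp
    · linear_combination (-s) * e00 - u * e01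
    · linear_combination (-s) * e10 - u * e11
  by_cases hc0 : c = 0
  · by_cases hb0 : b = 0
    · have ha : a ≠ 0 := fun ha => by rw [ha, hc0, hda, ha] at hd; simp at hd
      refine ⟨1, -1 / (2 * a), ?_⟩
      rw [hc0, hb0, hda]; field_simp; ring
    · obtain ⟨w, s, hws⟩ := exists_sum_two_sq h2 (-b)
      refine ⟨s, (w - a * s) / b, ?_⟩
      rw [hc0, hda]
      rw [hc0, mul_zero, add_zero] at e00
      field_simp
      linear_combination (-1 : F) * hws + (s * s) * e00
  · obtain ⟨w, u, hwu⟩ := exists_sum_two_sq h2 c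
    refine ⟨(w + a * u) / c, u, ?_⟩
    rw [hda]
    field_simp
    linear_combination hwu - (u * u) * e00

theorem exists_conj_of_sq_eq_neg_one [Fintype F] (h2 : (2 : F) ≠ 0) (A B : SpecialLinearGroup (Fin 2) F)
    (hA : A * A = negOne F) (hB : B * B = negOne F) :
    ∃ P : SpecialLinearGroup (Fin 2) F, P * A * P⁻¹ = B := by
  obtain ⟨P, hP⟩ := conj_rot h2 A hA
  obtain ⟨Q, hQ⟩ := conj_rot h2 B hB
  exact ⟨Q * P⁻¹, by rw [← hP, ← hQ]; simp [mul_assoc]⟩

end CfsgLib.SLTwoSq
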